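import Mathlib.AlgebraicGeometry.Morphisms.Integral
import Mathlib.AlgebraicGeometry.Morphisms.Proper
import Mathlib.AlgebraicGeometry.IdealSheaf.Subscheme

/-!
# The image of an integral morphism
-/

set_option autoImplicit false
universe u

open CategoryTheory AlgebraicGeometry

namespace K836.ImageIntegral

/-- A separated morphism is integral as soon as its composite with a surjective morphism is, granted
Chevalley's theorem. -/
theorem isIntegralHom_of_comp (hC : ∀ (X S : Scheme.{u}) (f : X ⟶ S)
    [IsAffine X] [Surjective f] [UniversallyClosed f], IsAffine S)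
    {X Y S : Scheme.{u}} (t : X ⟶ Y) (h : Y ⟶ S) (hsep : IsSeparated h) (ht : Surjective t)
    (hth : IsIntegralHom (t ≫ h)) : IsIntegralHom h := by
  have h0 : UniversallyClosed (t ≫ h) := (IsIntegralHom.iff_universallyClosed_and_isAffineHom.1 hth).1
  have h1 : UniversallyClosed h := UniversallyClosed.of_comp_surjective t h
  have h2 : UniversallyClosed t := UniversallyClosed.of_comp_of_isSeparated t h
  have h3 : IsAffineHom h := by
    constructor
    intro U hU
    have hV : IsAffineOpen ((t ≫ h) ⁻¹ᵁ U) := hth.toIsAffineHom.isAffine_preimage U hU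
    have h4 : Surjective (t ∣_ (h ⁻¹ᵁ U)) :=
      IsZariskiLocalAtTarget.restrict (P := @Surjective) ht (h ⁻¹ᵁ U)
    have h5 : UniversallyClosed (t ∣_ (h ⁻¹ᵁ U)) :=
      IsZariskiLocalAtTarget.restrict (P := @UniversallyClosed) h2 (h ⁻¹ᵁ U)
    have h6 : IsAffine (t ⁻¹ᵁ (h ⁻¹ᵁ U)).toScheme := hV
    exact hC _ _ (t ∣_ (h ⁻¹ᵁ U))
  exact IsIntegralHom.iff_universallyClosed_and_isAffineHom.2 ⟨h1, h3⟩

theorem toImage_surjective {X Y S : Scheme.{u}} (f : X ⟶ Y) (g : Y ⟶ S) (hg : IsSeparated g)
    (hfg : IsIntegralHom (f ≫ g)) : Surjective f.toImage := by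
  have h0 : UniversallyClosed (f ≫ g) := (IsIntegralHom.iff_universallyClosed_and_isAffineHom.1 hfg).1
  have h1 : UniversallyClosed f := UniversallyClosed.of_comp_of_isSeparated f g
  have h2 : UniversallyClosed (f.toImage ≫ f.imageι) := by rwa [Scheme.Hom.toImage_imageι]
  have h3 : UniversallyClosed f.toImage := UniversallyClosed.of_comp_of_isSeparated f.toImage f.imageι
  have h4 : IsDominant f.toImage := inferInstance
  refine ⟨?_⟩
  have h5 := f.toImage.denseRange
  have h6 : IsClosed (Set.range f.toImage) := f.toImage.isClosedMap.isClosed_range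
  rw [← Set.range_eq_univ, ← h6.closure_eq]
  exact h5.closure_eq

end K836.ImageIntegral
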